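import Cfsg.Agent.Lib.Leech.CrossLocal
import Cfsg.Agent.Lib.Leech.MultOne.SplitData
import Cfsg.Agent.Lib.Schur.OddSplit
import Cfsg.Agent.Lib.Golay.M24
import Cfsg.Agent.S2038

/-!
The lattice group has no stem double cover.
-/

set_option autoImplicit false
set_option maxRecDepth 100000
set_option linter.style.haveILetI false

namespace CfsgLib.Leech.MultOne

open Cfsg CfsgLib.Golay CfsgLib.Leech CfsgLib.Schur CfsgLib.Schur.InvolLift
open scoped Pointwise symmDiff

theorem row_inC (a : ℕ) : inC (CfsgLib.Golay.comb rows (a % 4096)) = true :=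
  inC_iff_mem_codeList.2 (List.mem_map.2 ⟨a % 4096, List.mem_range.2 (Nat.mod_lt _ (by norm_num)), rfl⟩)

theorem code_mem (a : ℕ) : dec (CfsgLib.Golay.comb rows (a % 4096)) ∈ CS :=
  ⟨_, wd_mem_of_inC (row_inC a), support_wd _⟩

/-- sign changes by code words -/
noncomputable def eps (a : ℕ) : ↥Co0 := mono (one_mem M24) (code_mem a)

theorem eps_xor (a b : ℕ) : eps (a ^^^ b) = eps a * eps b := by
  refine aut_ext fun v => Subtype.ext ?_
  rw [mul_smul, eps, eps, eps, mono, mono, mono, Iso.aut_smul, Iso.aut_smul, Iso.aut_smul]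
  funext i
  show monoFun _ _ _ i = monoFun _ _ (monoFun _ _ _) i
  rw [show (a ^^^ b) % 4096 = a % 4096 ^^^ b % 4096 from Nat.xor_mod_two_pow (n := 12) .., comb_xor]
  simp only [monoFun, Equiv.Perm.coe_one, id_eq, mem_dec, Nat.testBit_xor]
  cases (CfsgLib.Golay.comb rows (a % 4096)).testBit (idx i) <;>
    cases (CfsgLib.Golay.comb rows (b % 4096)).testBit (idx i) <;> simp

/-- the generating permutations -/
def gP (g : ℕ) : ℕ := [shiftP, invP, twistP].getD g shiftP

theorem gP_inM24 (g : ℕ) : inM24 (gP g) = true := by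
  rcases g with _ | _ | _ | g
  · decide +kernel
  · decide +kernel
  · decide +kernel
  · show inM24 shiftP = true
    decide +kernel

theorem gP_mem (g : ℕ) : toPerm (gP g) ∈ M24 := toPerm_mem_M24 (gP_inM24 g)

theorem gP_valid (g : ℕ) : validP (gP g) = true := by
  have := gP_inM24 g
  simp only [inM24, Bool.and_eq_true] at this
  exact this.1

/-- the lifted permutations -/
noncomputable def genM (g : ℕ) : ↥Co0 := mono (gP_mem g) empty_mem_CS

theorem img_table : ∀ g < 3, (List.range 4096).all (fun a =>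
    mimg (gP g) (CfsgLib.Golay.comb rows a) == CfsgLib.Golay.comb rows (monoSplit.op g a % 4096)) = true := by
  decide +kernel

theorem conj_eps : ∀ g < monoSplit.k, ∀ a < 2 ^ monoSplit.n,
    (genM g)⁻¹ * eps a * genM g = eps (monoSplit.op g a) := by
  intro g hg a ha
  have hg' : g < 3 := hg
  have ha' : a < 4096 := ha
  have h := List.all_eq_true.1 (img_table g hg') a (List.mem_range.2 ha')
  rw [beq_iff_eq] at h
  rw [mul_assoc, inv_mul_eq_iff_eq_mul]
  refine aut_ext fun v => Subtype.ext ?_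
  rw [mul_smul, mul_smul, eps, eps, genM, mono, mono, mono, Iso.aut_smul, Iso.aut_smul, Iso.aut_smul,
    Iso.aut_smul]
  funext i
  simp only [monoIso]
  simp only [monoFun, Equiv.Perm.coe_one, id_eq, Finset.notMem_empty, if_false, Nat.mod_eq_of_lt ha', ← h,
    mem_dec_mimg (gP_valid g)]

/-- a word in the generating permutations -/
def wordP : List ℕ → ℕ → ℕ
  | [], i => i
  | g :: r, i => wordP r (ap (gP g) i)

theorem genM_prod_apply : ∀ (r : List ℕ) (v : ↥leechLattice) (i : GolayPt),
    (((r.map genM).prod • v : ↥leechLattice) : GolayPt → ℤ) i =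
      (v : GolayPt → ℤ) (pt (wordP r (idx i))) := by
  intro r
  induction r with
  | nil => intro v i; simp [wordP, pt_idx]
  | cons g r ih =>
    intro v i
    rw [List.map_cons, List.prod_cons, mul_smul, genM, mono, Iso.aut_smul]
    simp only [monoIso, monoFun, Finset.notMem_empty, if_false, ih, wordP, idx_toPerm (gP_valid g)]

theorem rels_table : monoSplit.rels.all (fun r => (List.range 24).all fun i => wordP r i == i) = true := by
  decide +kernel

theorem genM_rel : ∀ r ∈ monoSplit.rels, (r.map genM).prod = 1 := by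
  intro r hr
  refine aut_ext fun v => Subtype.ext (funext fun i => ?_)
  have h := List.all_eq_true.1 (List.all_eq_true.1 rels_table r hr) (idx i) (List.mem_range.2 (idx_lt i))
  rw [beq_iff_eq] at h
  rw [genM_prod_apply, h, pt_idx, one_smul]

/-- the monomial subgroup generated by sign changes and permutations -/
theorem crossStab_le_closure :
    crossStab ≤ Subgroup.closure (Set.range eps ∪ Set.range genM) := by
  set U := Subgroup.closure (Set.range eps ∪ Set.range genM) with hU
  have hsign : ∀ {d : Finset GolayPt} (hd : d ∈ CS), mono (one_mem M24) hd ∈ U := by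
    intro d hd
    obtain ⟨m, hm, rfl⟩ := mem_supports_codeList.1 hd
    obtain ⟨a, ha, rfl⟩ := List.mem_map.1 hm
    have e : eps a = mono (one_mem M24) hd := by
      have : a % 4096 = a := Nat.mod_eq_of_lt (List.mem_range.1 ha)
      simp only [eps, this]
    exact e ▸ Subgroup.subset_closure (Or.inl ⟨a, rfl⟩)
  let Q : Subgroup (Equiv.Perm GolayPt) :=
    { carrier := {σ | ∃ (hσ : σ ∈ M24) (d : Finset GolayPt) (hd : d ∈ CS), mono hσ hd ∈ U}
      one_mem' := ⟨one_mem M24, ∅, empty_mem_CS, hsign empty_mem_CS⟩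
      mul_mem' := by
        rintro σ σ' ⟨hσ, d, hd, h⟩ ⟨hσ', d', hd', h'⟩
        obtain ⟨e, he, hh⟩ := mono_mul_perm hσ' hd' hσ hd
        exact ⟨mul_mem hσ hσ', e, he, hh ▸ mul_mem h' h⟩
      inv_mem' := by
        rintro σ ⟨hσ, d, hd, h⟩
        obtain ⟨e, he, hh⟩ := inv_mono_perm hσ hd
        exact ⟨inv_mem hσ, e, he, hh ▸ inv_mem h⟩ }
  have hgQ : ∀ g, toPerm (gP g) ∈ Q := fun g =>
    ⟨gP_mem g, ∅, empty_mem_CS, Subgroup.subset_closure (Or.inr ⟨g, rfl⟩)⟩
  have hQ : M24 ≤ Q := by
    rw [← closure_eq_M24, Subgroup.closure_le]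
    rintro x (rfl | rfl | rfl)
    · exact shift_eq ▸ hgQ 0
    · exact projInv_eq ▸ hgQ 1
    · exact cubeTwist_eq ▸ hgQ 2
  intro x hx
  obtain ⟨σ, d, hσ, hd, rfl⟩ := crossStab_eq_mono hx
  obtain ⟨hσ', e, he, h⟩ := hQ hσ
  obtain ⟨e', he', h1⟩ := inv_mono_perm hσ' he
  obtain ⟨f, hf, h2⟩ := mono_mul_perm hσ hd (inv_mem hσ') he'
  have h3 : mono hσ hd * (mono hσ' he)⁻¹ ∈ U := by
    rw [h1, h2]
    have e : mono (mul_mem (inv_mem hσ') hσ) hf = mono (one_mem M24) hf := by
      simp only [inv_mul_cancel]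
    rw [e]; exact hsign hf
  have := mul_mem h3 h
  rwa [inv_mul_cancel_right] at this

theorem index_crossStab_odd : ¬ 2 ∣ crossStab.index := by
  have h := Subgroup.card_mul_index crossStab
  rw [natCard_crossStab, natCard_Co0] at h
  omega

/-- The group has no stem extension with kernel of order two. -/
theorem no_double_Co0 [Finite ↥Co0] (E : Type) [Group E] [Finite E] (τ : E →* ↥Co0)
    (hτ : Cfsg.IsStemExtension τ) (h2 : Nat.card τ.ker = 2) : False := by
  refine no_stem_of_local Nat.prime_two hτ h2 crossStab index_crossStab_odd fun z hz hzd _ => ?_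
  by_contra hz1
  have D := double_of_card_two hτ h2
  obtain ⟨s, hsτ, hsadd, hsconj⟩ :=
    ModuleSplit.exists_section monoSplit monoSplit_ok D h2 eps eps_xor genM conj_eps genM_rel
  set N := crossStab.comap τ with hN
  have hop : ∀ g a, a < 4096 → monoSplit.op g a < 4096 := fun g a _ => by
    have hA : monoSplit.A.all (fun l => l.all fun x => decide (x < 4096)) = true := by decide +kernel
    refine ModuleSplit.lin_lt (N := 12) _ (fun i => ?_) _ _
    simp only [List.all_eq_true, decide_eq_true_eq] at hA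
    rcases lt_or_ge g monoSplit.A.length with hg | hg
    · rw [List.getD_eq_getElem _ _ hg]
      rcases lt_or_ge i monoSplit.A[g].length with hi | hi
      · rw [List.getD_eq_getElem _ _ hi]; exact hA _ (List.getElem_mem hg) _ (List.getElem_mem hi)
      · rw [List.getD_eq_default _ _ hi]; norm_num
    · rw [List.getD_eq_default _ _ hg]; simp
  have s_zero : s 0 = 1 := by
    have := hsadd 0 (Nat.two_pow_pos _) 0 (Nat.two_pow_pos _)
    rw [Nat.xor_self] at this
    exact mul_eq_left.1 this.symm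
  let S : Subgroup E :=
    { carrier := s '' Set.Iio 4096
      one_mem' := ⟨0, by norm_num, s_zero⟩
      mul_mem' := by
        rintro _ _ ⟨a, ha, rfl⟩ ⟨b, hb, rfl⟩
        exact ⟨a ^^^ b, Nat.xor_lt_two_pow (n := 12) ha hb, hsadd a ha b hb⟩
      inv_mem' := by
        rintro _ ⟨a, ha, rfl⟩
        refine ⟨a, ha, ?_⟩
        have := hsadd a ha a ha
        rw [Nat.xor_self, s_zero] at this
        exact (inv_eq_of_mul_eq_one_right this.symm).symm }
  have hsS : ∀ a < 4096, s a ∈ S := fun a ha => ⟨a, ha, rfl⟩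
  have hSN : S ≤ N := by
    rintro _ ⟨a, ha, rfl⟩
    show τ (s a) ∈ crossStab
    rw [hsτ a ha]
    exact mono_mem_crossStab _ _
  have hSz : ∀ w ∈ τ.ker, w ∈ S → w = 1 := by
    rintro w hw ⟨a, ha, rfl⟩
    have ha' : a < 4096 := ha
    rw [MonoidHom.mem_ker, hsτ a ha, one_eq_mono, eps] at hw
    have hd := (mono_inj hw).2
    rw [Nat.mod_eq_of_lt ha', show (∅ : Finset GolayPt) = dec 0 by ext p; simp [mem_dec]] at hd
    have hc := dec_inj (codeList_lt (inC_iff_mem_codeList.1 (Nat.mod_eq_of_lt ha' ▸ row_inC a)))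
      (by norm_num) hd
    have h0 := comb_low a (List.mem_range.2 ha')
    rw [hc] at h0
    rw [← h0, Nat.zero_mod]
    exact s_zero
  set U := Subgroup.closure (Set.range eps ∪ Set.range genM) with hUdef
  have hcs := crossStab_le_closure
  rw [← hUdef] at hcs
  -- the preimage normalises the section
  have hnorm : ∀ x ∈ N, x ∈ Subgroup.normalizer (S : Set E) := by
    intro x hx
    have hle : U ≤ (Subgroup.normalizer (S : Set E)).map τ := by
      rw [hUdef, Subgroup.closure_le]
      rintro y (⟨a, rfl⟩ | ⟨g, rfl⟩)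
      · refine ⟨s (a % 4096), Subgroup.le_normalizer (hsS _ (Nat.mod_lt _ (by norm_num))), ?_⟩
        rw [hsτ (a % 4096) (Nat.mod_lt _ (by norm_num))]
        simp only [eps, Nat.mod_mod]
      · have main : ∀ j < 3, genM j ∈ (Subgroup.normalizer (S : Set E)).map τ := by
          intro j hj
          obtain ⟨T, hT⟩ := D.surj (genM j)
          refine ⟨T, ?_, hT⟩
          have hfin : (S : Set E).Finite := Set.toFinite _
          have hmaps : ∀ w ∈ (S : Set E), T⁻¹ * w * T ∈ (S : Set E) := by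
            rintro _ ⟨a, ha, rfl⟩
            rw [hsconj j hj T hT a ha]
            exact hsS _ (hop j a ha)
          have hbij := (hfin.injOn_iff_bijOn_of_mapsTo (f := fun w => T⁻¹ * w * T) hmaps).1
            (fun u _ v _ (h : T⁻¹ * u * T = T⁻¹ * v * T) => mul_left_cancel (mul_right_cancel h))
          show T ∈ Subgroup.normalizer (S : Set E)
          rw [← Subgroup.inv_mem_iff, Subgroup.mem_normalizer_iff]
          intro w
          rw [inv_inv]
          refine ⟨fun hw => hmaps w hw, fun hw => ?_⟩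
          obtain ⟨u, hu, he⟩ := hbij.surjOn hw
          have he' : T⁻¹ * u * T = T⁻¹ * w * T := he
          have : u = w := mul_left_cancel (mul_right_cancel he')
          exact this ▸ hu
        rcases lt_or_ge g 3 with hg | hg
        · exact main g hg
        · have e : genM g = genM 0 := by
            have : gP g = gP 0 := by
              unfold gP
              rw [List.getD_eq_default _ _ (by simpa using hg)]
              rfl
            simp only [genM, this]
          exact e ▸ main 0 (by norm_num)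
    obtain ⟨y, hy, hyx⟩ := hle (hcs hx)
    have hk : y⁻¹ * x ∈ τ.ker := by rw [MonoidHom.mem_ker, map_mul, map_inv, hyx, inv_mul_cancel]
    have hkn : y⁻¹ * x ∈ Subgroup.normalizer (S : Set E) := by
      rw [Subgroup.mem_normalizer_iff]
      intro w
      rw [← D.comm hk w, mul_inv_cancel_right]
    simpa using mul_mem hy hkn
  -- the permutation of an element of the preimage
  haveI hSn : (S.subgroupOf N).Normal := Subgroup.normal_subgroupOf_of_le_normalizer hnorm
  have hperm : ∀ x : N, ∃ σ : ↥M24, ∃ (d : Finset GolayPt) (hd : d ∈ CS),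
      τ (x : E) = mono σ.2 hd := fun x => by
    obtain ⟨σ, d, hσ, hd, h⟩ := crossStab_eq_mono (Subgroup.mem_comap.1 x.2)
    exact ⟨⟨σ, hσ⟩, d, hd, h⟩
  choose φ0 d0 hd0 hφ0 using hperm
  let φ : N →* ↥M24 :=
    { toFun := fun x => (φ0 x)⁻¹
      map_one' := by
        have h : φ0 1 = 1 := Subtype.ext (perm_unique (d' := ∅) (hσ' := one_mem M24) (hd' := empty_mem_CS)
          ((hφ0 1).symm.trans (by rw [Subgroup.coe_one, map_one, one_eq_mono])))
        rw [h, inv_one]
      map_mul' := fun x y => by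
        have e := hφ0 (x * y)
        rw [Subgroup.coe_mul, map_mul, hφ0, hφ0] at e
        have e' : φ0 (x * y) = φ0 y * φ0 x := Subtype.ext (perm_mul e)
        rw [e', mul_inv_rev] }
  have hkerS : S.subgroupOf N ≤ φ.ker := by
    intro x hx
    obtain ⟨a, ha, he⟩ : (x : E) ∈ S := hx
    have ha' : a < 4096 := ha
    have h := hφ0 x
    rw [← he, hsτ a ha, eps] at h
    have h1 : φ0 x = 1 := Subtype.ext (perm_unique h).symm
    show (φ0 x)⁻¹ = 1
    rw [h1, inv_one]
  let σΓ : N ⧸ S.subgroupOf N →* ↥M24 := QuotientGroup.lift _ φ hkerS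
  have hsurj : Function.Surjective σΓ := by
    intro g
    have hm : mono (inv_mem g.2) empty_mem_CS ∈ crossStab := mono_mem_crossStab _ _
    obtain ⟨x, hx⟩ := D.surj (mono (inv_mem g.2) empty_mem_CS)
    refine ⟨QuotientGroup.mk' _ ⟨x, by show τ x ∈ crossStab; rw [hx]; exact hm⟩, ?_⟩
    show (φ0 _)⁻¹ = g
    rw [inv_eq_iff_eq_inv]
    exact Subtype.ext (perm_unique ((hφ0 _).symm.trans hx))
  have hker : ∀ x : N, φ x = 1 → ∃ w ∈ τ.ker, ∃ u ∈ S, (x : E) = w * u := by
    intro x hx
    have h1 : φ0 x = 1 := inv_eq_one.1 hx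
    have h := hφ0 x
    obtain ⟨m, hm, hmd⟩ := mem_supports_codeList.1 (hd0 x)
    obtain ⟨a, ha, rfl⟩ := List.mem_map.1 hm
    have ha' := List.mem_range.1 ha
    have he : τ (x : E) = τ (s a) := by
      rw [h, hsτ a ha']
      simp only [eps, Nat.mod_eq_of_lt ha', hmd, h1, Subgroup.coe_one]
    exact ⟨(x : E) * (s a)⁻¹, by rw [MonoidHom.mem_ker, map_mul, map_inv, he, mul_inv_cancel],
      s a, hsS a ha', (inv_mul_cancel_right _ _).symm⟩
  have hzN : z ∈ N := by show τ z ∈ crossStab; rw [MonoidHom.mem_ker.1 hz]; exact one_mem _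
  have hcomm : (⟨z, hzN⟩ : N) ∈ commutator N := by
    rw [commutator_def]
    rw [show ⁅N, N⁆ = Subgroup.map N.subtype (⁅(⊤ : Subgroup N), (⊤ : Subgroup N)⁆ : Subgroup N) by
      rw [Subgroup.map_commutator, ← MonoidHom.range_eq_map, Subgroup.range_subtype]] at hzd
    obtain ⟨w, hw, hwz⟩ := hzd
    exact (show w = ⟨z, hzN⟩ from Subtype.ext hwz) ▸ hw
  have hmk : ∀ w ∈ τ.ker, w = 1 ∨ w = z := by
    intro w hw
    haveI : Finite τ.ker := inferInstance
    by_contra hne
    push Not at hne
    obtain ⟨u, -, huniq⟩ := (Nat.card_eq_two_iff' (1 : τ.ker)).1 h2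
    exact hne.2 (congrArg Subtype.val ((huniq ⟨w, hw⟩ fun e => hne.1 (congrArg Subtype.val e)).trans
      (huniq ⟨z, hz⟩ fun e => hz1 (congrArg Subtype.val e)).symm))
  have hkz : σΓ.ker ≤ Subgroup.zpowers (QuotientGroup.mk' (S.subgroupOf N) ⟨z, hzN⟩) := by
    intro q hq
    obtain ⟨x, rfl⟩ := QuotientGroup.mk'_surjective _ q
    obtain ⟨w, hw, u, hu, hxe⟩ := hker x hq
    have hx' : x = (⟨w, by show τ w ∈ crossStab; rw [MonoidHom.mem_ker.1 hw]; exact one_mem _⟩ : N) *
        ⟨u, hSN hu⟩ := Subtype.ext hxe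
    rw [hx', map_mul, show QuotientGroup.mk' (S.subgroupOf N) (⟨u, hSN hu⟩ : N) = 1 from
      (QuotientGroup.eq_one_iff _).2 hu, mul_one]
    rcases hmk w hw with rfl | rfl
    · exact (show (⟨1, _⟩ : N) = 1 from rfl) ▸ (map_one (QuotientGroup.mk' (S.subgroupOf N))).symm ▸ one_mem _
    · exact Subgroup.mem_zpowers _
  have hzc : QuotientGroup.mk' (S.subgroupOf N) ⟨z, hzN⟩ ∈ Subgroup.center (N ⧸ S.subgroupOf N) := by
    rw [Subgroup.mem_center_iff]
    intro q
    obtain ⟨x, rfl⟩ := QuotientGroup.mk'_surjective _ q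
    rw [← map_mul, ← map_mul]
    exact congrArg _ (Subtype.ext (D.comm hz (x : E)))
  have hstem : Cfsg.IsStemExtension σΓ := by
    refine ⟨hsurj, hkz.trans (Subgroup.zpowers_le.2 hzc), hkz.trans (Subgroup.zpowers_le.2 ?_)⟩
    have := Subgroup.mem_map_of_mem (QuotientGroup.mk' (S.subgroupOf N)) hcomm
    rw [commutator_def, Subgroup.map_commutator] at this
    rw [commutator_def]
    exact Subgroup.commutator_mono le_top le_top this
  obtain ⟨π, hπ⟩ := Cfsg.Agent.S2038.result.2 _ σΓ hstem
  have hzk : QuotientGroup.mk' (S.subgroupOf N) ⟨z, hzN⟩ ∈ σΓ.ker := by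
    have h := hφ0 ⟨z, hzN⟩
    rw [MonoidHom.mem_ker.1 hz, one_eq_mono] at h
    show (φ0 ⟨z, hzN⟩)⁻¹ = 1
    rw [show φ0 ⟨z, hzN⟩ = 1 from Subtype.ext (perm_unique h).symm, inv_one]
  obtain ⟨t, ht⟩ := hπ ⟨_, hzk⟩
  have ht1 : t = 1 := Subsingleton.elim _ _
  rw [ht1, map_one] at ht
  have hzS : z ∈ S := (QuotientGroup.eq_one_iff (⟨z, hzN⟩ : N)).1 (congrArg Subtype.val ht).symm
  exact hz1 (hSz z hz hzS)

end CfsgLib.Leech.MultOne
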