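import Cfsg.Agent.Lib.Leech.MultOne.OddChecks
import Cfsg.Agent.Lib.Leech.Simple
import Cfsg.Agent.Lib.Golay.Mult.Odd

/-!
No stem extension of the lattice group modulo its centre has a kernel of odd prime order.
-/

set_option autoImplicit false
set_option maxRecDepth 100000
set_option linter.style.haveILetI false

namespace CfsgLib.Leech.MultOne

open Cfsg CfsgLib.Golay CfsgLib.Leech CfsgLib.Leech.Mult CfsgLib.Schur CfsgLib.Schur.OddTower Cfsg.Spor

attribute [local irreducible] dL bL key keyL coord packB linL bits autOK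

open Classical in
/-- the elements of the certificates -/
noncomputable def oddElt (i : ℕ) : Co1 :=
  if h : autOK (unMat (oddPacked.getD i [])) = true then QuotientGroup.mk (linIso h).aut else 1

theorem rep_oddElt (i : ℕ) : Rep1 (oddElt i) (oddT.tb i) := by
  rcases lt_or_ge i oddPacked.length with hi | hi
  · have h' := oddElts_len.1 ▸ hi
    have h := List.all_eq_true.1 oddElts_ok (oddPacked[i], oddT.cs[i]) (List.mem_iff_getElem.2
      ⟨i, by rw [List.length_zip]; exact lt_min hi h', List.getElem_zip⟩)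
    simp only [oddEltOK, Bool.and_eq_true, beq_iff_eq] at h
    rw [oddElt, List.getD_eq_getElem _ _ hi, Tabs.tb, List.getD_eq_getElem _ _ h', ← h.2]
    split_ifs with hd
    · exact ⟨_, rfl, fun k hk => act_lin hd hk⟩
    · exact absurd h.1 hd
  · rw [oddElt, List.getD_eq_default _ _ hi, Tabs.tb, List.getD_eq_default _ _ (oddElts_len.1 ▸ hi),
      dif_neg (by decide +kernel)]
    exact rep1_one

theorem natCard_Co1 : Nat.card Co1 = 4157776806543360000 := by
  haveI := finite_Co0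
  have h := Subgroup.card_eq_card_quotient_mul_card_subgroup (Subgroup.center ↥Co0)
  rw [natCard_Co0, natCard_center] at h
  exact Nat.eq_of_mul_eq_mul_right (show 0 < 2 by norm_num) (h.symm.trans (by norm_num))

theorem finite_Co1 : Finite Co1 :=
  Nat.finite_of_card_ne_zero (by rw [natCard_Co1]; norm_num)

theorem gen_sup_le (G : ℕ → Co1) (xs ys : List ℕ) : gen G xs ⊔ gen G ys ≤ gen G (ys ++ xs) := by
  refine sup_le ?_ ?_ <;> rw [gen, Subgroup.closure_le] <;> rintro _ ⟨i, rfl⟩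
  · exact mem_gen G (List.mem_append_right _ (getD_mem i))
  · exact mem_gen G (List.mem_append_left _ (getD_mem i))

theorem no_stem_three (E : Type) [Group E] [Finite E] (τ : E →* Co1) (hτ : Cfsg.IsStemExtension τ)
    (hk : Nat.card τ.ker = 3) : False := by
  haveI := finite_Co1
  have hp : Nat.Prime 3 := by norm_num
  have h2 : (3 : ℕ) ≠ 2 := by norm_num
  obtain ⟨hXY, hZ, hiA, hiXY, hiZ, hcXY, hcZ, hc2Z, hnXY, hnA, hsXY, hsZ⟩ := three_ok
  have hG := rep_oddElt
  obtain ⟨KA, sA, UA, hUA, hinvA⟩ := sec_piece oddT hG hp h2 hτ hk three_pieceA hiA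
  obtain ⟨KM, sM, UM, hUM, hinvM⟩ := sec_piece oddT hG hp h2 hτ hk hXY hiXY
  obtain ⟨KZ, sZ, -⟩ := sec_piece oddT hG hp h2 hτ hk hZ hiZ
  obtain ⟨⟨K0, s0⟩, c0⟩ := sec_extend hp h2 hτ hk sM sZ hUM hinvM
    (fun x hx => cent_spec oddT hG hc2Z hx) (fun x hx y hy => gen_norm oddT hG hnXY hx hy)
  have hle := gen_sup_le oddElt z3 xy3
  have hc : oddT.centOK t3E (xy3 ++ z3) = true := by
    simp only [Tabs.centOK, List.all_append, Bool.and_eq_true] at hcXY hcZ ⊢
    exact ⟨hcXY, hcZ⟩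
  obtain ⟨⟨K, s⟩, c⟩ := sec_extend hp h2 hτ hk sA s0 hUA hinvA
    (fun x hx => cent_spec oddT hG hc (hle hx)) (fun x hx y hy => gen_norm oddT hG hnA (hle hx) hy)
  refine no_stem_of_sec hp h2 hτ hk s (m := 9) ?_ (by rw [natCard_Co1]; decide +kernel)
  rw [c, c0]
  calc 3 ^ 9 = 3 ^ z3.length * 3 ^ xy3.length * 3 ^ as3.length := by decide +kernel
    _ ≤ _ := Nat.mul_le_mul (Nat.mul_le_mul (card_gen oddT hG hsZ) (card_gen oddT hG hsXY))
        (card_gen oddT hG three_sizeA)

theorem no_stem_five (E : Type) [Group E] [Finite E] (τ : E →* Co1) (hτ : Cfsg.IsStemExtension τ)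
    (hk : Nat.card τ.ker = 5) : False := by
  haveI := finite_Co1
  have hp : Nat.Prime 5 := by norm_num
  have h2 : (5 : ℕ) ≠ 2 := by norm_num
  obtain ⟨hA, hB, hiA, hiB, hcB, hnA, hsA, hsB⟩ := five_ok
  have hG := rep_oddElt
  obtain ⟨KA, sA, UA, hUA, hinvA⟩ := sec_piece oddT hG hp h2 hτ hk hA hiA
  obtain ⟨KB, sB, -⟩ := sec_piece oddT hG hp h2 hτ hk hB hiB
  obtain ⟨⟨K, s⟩, c⟩ := sec_extend hp h2 hτ hk sA sB hUA hinvA
    (fun x hx => cent_spec oddT hG hcB hx) (fun x hx y hy => gen_norm oddT hG hnA hx hy)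
  refine no_stem_of_sec hp h2 hτ hk s (m := 4) ?_ (by rw [natCard_Co1]; decide +kernel)
  rw [c]
  calc 5 ^ 4 = 5 ^ b5.length * 5 ^ as5.length := by decide +kernel
    _ ≤ _ := Nat.mul_le_mul (card_gen oddT hG hsB) (card_gen oddT hG hsA)

theorem no_stem_seven (E : Type) [Group E] [Finite E] (τ : E →* Co1) (hτ : Cfsg.IsStemExtension τ)
    (hk : Nat.card τ.ker = 7) : False := by
  haveI := finite_Co1
  have hp : Nat.Prime 7 := by norm_num
  haveI := Fact.mk hp
  obtain ⟨hxy, hsx, hsy, hsize⟩ := seven_ok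
  have hG := rep_oddElt
  simp only [Tabs.centOK, List.all_cons, List.all_nil, Bool.and_true, beq_iff_eq] at hxy hsx
  have e1 : oddElt x7E * oddElt y7E = oddElt y7E * oddElt x7E :=
    ((hG _).mul (hG _)).eq (by rw [hxy]; exact (hG _).mul (hG _))
  refine no_stem_of_fix_square hp hτ hk (oddElt x7E) (oddElt y7E) (oddElt s7E) e1 ?_ ?_ fun hd => ?_
  · rw [mul_inv_eq_iff_eq_mul]
    exact ((hG _).mul (hG _)).eq (by rw [hsx]; exact (hG _).mul (hG _))
  · rw [mul_inv_eq_iff_eq_mul]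
    exact ((hG _).mul (hG _)).eq (by rw [hsy]; exact ((hG _).mul (hG _)).mul (hG _))
  · have hU : Subgroup.closure {oddElt x7E, oddElt y7E} = gen oddElt [x7E, y7E] := by
      rw [gen]
      congr 1
      ext z
      constructor
      · rintro (rfl | rfl)
        · exact ⟨⟨0, by simp⟩, rfl⟩
        · exact ⟨⟨1, by simp⟩, rfl⟩
      · rintro ⟨⟨i, hi⟩, rfl⟩
        simp only [List.length_cons, List.length_nil] at hi
        interval_cases i
        · exact Or.inl rfl
        · exact Or.inr rfl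
    rw [hU] at hd
    have h := Subgroup.card_mul_index (gen oddElt [x7E, y7E])
    have hcard := card_gen oddT hG hsize
    obtain ⟨k, hk'⟩ := hd
    have hdiv : Nat.card (gen oddElt [x7E, y7E]) * 7 ∣ 4157776806543360000 :=
      ⟨k, by rw [mul_assoc, ← hk', h, natCard_Co1]⟩
    have hpg : IsPGroup 7 (gen oddElt [x7E, y7E]) := by
      rw [← hU]
      rintro ⟨z, hz⟩
      refine ⟨1, Subtype.ext ?_⟩
      show z ^ 7 ^ 1 = 1
      rw [pow_one]
      have hab := Subgroup.isMulCommutative_closure (k := ({oddElt x7E, oddElt y7E} : Set Co1)) (by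
        rintro _ (rfl | rfl) _ (rfl | rfl)
        exacts [rfl, e1, e1.symm, rfl])
      induction hz using Subgroup.closure_induction with
      | mem x hx =>
        rcases hx with rfl | rfl
        · exact ((hG _).pow 7).eq (by rw [show OddC.powC (oddT.tb x7E) 7 = pow2L by decide +kernel]; exact rep1_one)
        · exact ((hG _).pow 7).eq (by rw [show OddC.powC (oddT.tb y7E) 7 = pow2L by decide +kernel]; exact rep1_one)
      | one => simp
      | mul u v hu hv ihu ihv =>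
        have hc : Commute u v := congrArg Subtype.val (hab.is_comm.comm ⟨u, hu⟩ ⟨v, hv⟩)
        rw [hc.mul_pow, ihu, ihv, one_mul]
      | inv u _ ihu => rw [inv_pow, ihu, inv_one]
    obtain ⟨n, hn⟩ := (IsPGroup.iff_card).1 hpg
    rw [hn] at hdiv hcard
    have hn2 : 2 ≤ n := (Nat.pow_le_pow_iff_right (by norm_num : 1 < 7)).mp hcard
    have : 7 ^ 3 ∣ (4157776806543360000 : ℕ) := (pow_dvd_pow 7 (show 3 ≤ n + 1 by omega)).trans (pow_succ 7 n ▸ hdiv)
    norm_num at this

/-- no stem extension with kernel of odd prime order -/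
theorem no_stem_odd {ℓ : ℕ} (hℓ : ℓ.Prime) (h2 : ℓ ≠ 2) (E : Type) [Group E] [Finite E] (τ : E →* Co1)
    (hτ : Cfsg.IsStemExtension τ) (hk : Nat.card τ.ker = ℓ) : False := by
  haveI := finite_Co1
  by_cases h3 : ℓ = 3
  · exact no_stem_three E τ hτ (h3 ▸ hk)
  by_cases h5 : ℓ = 5
  · exact no_stem_five E τ hτ (h5 ▸ hk)
  by_cases h7 : ℓ = 7
  · exact no_stem_seven E τ hτ (h7 ▸ hk)
  have hsq : ¬ ℓ ^ 2 ∣ Nat.card Co1 := by
    rw [natCard_Co1]
    intro hd
    have h1 : ℓ ∣ 2 ^ 21 * 3 ^ 9 * 5 ^ 4 * 7 ^ 2 * 11 * 13 * 23 :=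
      (dvd_pow_self ℓ two_ne_zero).trans (by simpa using hd)
    simp only [Nat.Prime.dvd_mul hℓ] at h1
    rcases h1 with (((((h | h) | h) | h) | h) | h) | h
    · exact h2 ((Nat.prime_dvd_prime_iff_eq hℓ Nat.prime_two).1 (hℓ.dvd_of_dvd_pow h))
    · exact h3 ((Nat.prime_dvd_prime_iff_eq hℓ Nat.prime_three).1 (hℓ.dvd_of_dvd_pow h))
    · exact h5 ((Nat.prime_dvd_prime_iff_eq hℓ (by norm_num)).1 (hℓ.dvd_of_dvd_pow h))
    · exact h7 ((Nat.prime_dvd_prime_iff_eq hℓ (by norm_num)).1 (hℓ.dvd_of_dvd_pow h))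
    all_goals
      have := (Nat.prime_dvd_prime_iff_eq hℓ (by norm_num)).1 h
      subst this
      norm_num at hd
  obtain ⟨U, hU, hUc⟩ := CfsgLib.Golay.Mult.local_of_sq_not_dvd hℓ hsq
  exact no_stem_of_local hℓ hτ hk U hU fun z hz hzd hzo => hUc E τ hτ.1 hτ.2.1 z hz hzd hzo

end CfsgLib.Leech.MultOne
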