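import Cfsg.Agent.Lib.Leech.MultOne.OddEltChk0
import Cfsg.Agent.Lib.Leech.MultOne.OddEltChk1

/-!
The checks of the certificates for the odd primes.
-/

set_option autoImplicit false
set_option Elab.async false
set_option maxRecDepth 100000
set_option maxHeartbeats 4000000

namespace CfsgLib.Leech.MultOne

open CfsgLib.Leech CfsgLib.Leech.Mult

theorem oddElts_len : oddPacked.length = oddT.cs.length ∧ (oddPacked.zip oddT.cs).length ≤ 5 * 8 := by
  decide +kernel

theorem oddElts_ok : (oddPacked.zip oddT.cs).all oddEltOK = true := by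
  refine all_of_pieces oddElts_len.2 fun i hi => ?_
  interval_cases i
  · exact oddElts_piece0
  · exact oddElts_piece1
  · exact oddElts_piece2
  · exact oddElts_piece3
  · exact oddElts_piece4
  · exact oddElts_piece5
  · exact oddElts_piece6
  · exact oddElts_piece7

theorem three_pieceA : oddT.pieceOK 3 as3 pairs3 = true := by decide +kernel

theorem three_sizeA : oddT.sizeOK 3 as3 = true := by decide +kernel

theorem three_ok : oddT.pieceOK 3 xy3 pairsXY = true ∧ oddT.pieceOK 3 z3 [] = true ∧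
    oddT.invOK t3E as3 = true ∧ oddT.invOK t2E xy3 = true ∧ oddT.invOK r3E z3 = true ∧
    oddT.centOK t3E xy3 = true ∧ oddT.centOK t3E z3 = true ∧ oddT.centOK t2E z3 = true ∧
    oddT.normOK z3 xy3 normXY = true ∧ oddT.normOK (xy3 ++ z3) as3 normA3 = true ∧
    oddT.sizeOK 3 xy3 = true ∧ oddT.sizeOK 3 z3 = true := by decide +kernel

theorem five_ok : oddT.pieceOK 5 as5 pairs5 = true ∧ oddT.pieceOK 5 b5 [] = true ∧
    oddT.invOK t5E as5 = true ∧ oddT.invOK r5E b5 = true ∧ oddT.centOK t5E b5 = true ∧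
    oddT.normOK b5 as5 norm5 = true ∧ oddT.sizeOK 5 as5 = true ∧ oddT.sizeOK 5 b5 = true := by
  decide +kernel

theorem seven_ok : oddT.centOK x7E [y7E] = true ∧ oddT.centOK s7E [x7E] = true ∧
    mulC (oddT.tb s7E) (oddT.tb y7E) = mulC (mulC (oddT.tb y7E) (oddT.tb y7E)) (oddT.tb s7E) ∧
    oddT.sizeOK 7 [x7E, y7E] = true := by
  decide +kernel

end CfsgLib.Leech.MultOne
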