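import Cfsg.Agent.Lib.Leech.MultOne.OddElts

/-!
Checks of the elements for the odd primes.
-/

set_option autoImplicit false
set_option Elab.async false
set_option maxRecDepth 100000
set_option maxHeartbeats 4000000

namespace CfsgLib.Leech.MultOne

open CfsgLib.Leech CfsgLib.Leech.Mult

theorem oddElts_piece0 : pieceOK 5 (oddPacked.zip oddT.cs) oddEltOK 0 = true := by decide +kernel

theorem oddElts_piece1 : pieceOK 5 (oddPacked.zip oddT.cs) oddEltOK 1 = true := by decide +kernel

theorem oddElts_piece2 : pieceOK 5 (oddPacked.zip oddT.cs) oddEltOK 2 = true := by decide +kernel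

theorem oddElts_piece3 : pieceOK 5 (oddPacked.zip oddT.cs) oddEltOK 3 = true := by decide +kernel

end CfsgLib.Leech.MultOne
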