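import Cfsg.Agent.Lib.Leech.Mult.Odd
import Cfsg.Agent.Lib.Schur.OddTower

/-!
Tables on classes modulo two for elements of the lattice group modulo its centre, and checks of
relations between them.
-/

set_option autoImplicit false
set_option maxRecDepth 10000

namespace CfsgLib.Leech.MultOne

open Cfsg CfsgLib.Golay CfsgLib.Leech CfsgLib.Leech.Mult CfsgLib.Schur CfsgLib.Schur.OddTower Cfsg.Spor

attribute [local irreducible] dL bL key keyL coord packB linL bits

/-- the table of an element of the quotient -/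
def Rep1 (g : Co1) (c : List ℕ) : Prop :=
  ∃ x : ↥Co0, QuotientGroup.mk x = g ∧ ∀ k < 2 ^ 24, act x k = comb c k

theorem rep1_one : Rep1 1 pow2L :=
  ⟨1, rfl, fun k hk => by rw [comb_pow2 hk]; exact act_one hk⟩

theorem Rep1.mul {g h : Co1} {c d : List ℕ} : Rep1 g c → Rep1 h d → Rep1 (g * h) (mulC c d) := by
  rintro ⟨x, rfl, hx⟩ ⟨y, rfl, hy⟩
  exact ⟨x * y, rfl, fun k hk => by rw [act_mul, hx _ (act_lt _ _), hy k hk, mulC, comb_comb]⟩

theorem Rep1.pow {g : Co1} {c : List ℕ} (h : Rep1 g c) : ∀ n, Rep1 (g ^ n) (OddC.powC c n)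
  | 0 => by rw [pow_zero]; exact rep1_one
  | n + 1 => by rw [pow_succ']; exact h.mul (h.pow n)

theorem Rep1.prod {α : Type*} {g : α → Co1} {c : α → List ℕ} : ∀ {w : List α},
    (∀ a ∈ w, Rep1 (g a) (c a)) → Rep1 (w.map g).prod ((w.map c).foldr mulC pow2L) := by
  intro w
  induction w with
  | nil => intro _; exact rep1_one
  | cons a w ih =>
    intro h
    simp only [List.mem_cons, forall_eq_or_imp] at h
    simp only [List.map_cons, List.prod_cons, List.foldr_cons]
    exact h.1.mul (ih h.2)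

theorem Rep1.eq {g h : Co1} {c : List ℕ} : Rep1 g c → Rep1 h c → g = h := by
  rintro ⟨x, rfl, hx⟩ ⟨y, rfl, hy⟩
  rw [QuotientGroup.eq]
  refine trivial_mod_two fun v => ?_
  rw [isDbl_sub_iff, ← act_key, act_mul, hy _ (key_lt _), ← hx _ (key_lt _), act_inv_act _ (key_lt _)]

theorem Rep1.keyC_eq {g : Co1} {c d : List ℕ} : Rep1 g c → Rep1 g d → keyC c = keyC d := by
  rintro ⟨x, rfl, hx⟩ ⟨y, hxy, hy⟩
  rw [keyC, keyC]
  congr 1
  refine List.map_congr_left fun j hj => ?_
  have hk : 2 ^ j < 2 ^ 24 := Nat.pow_lt_pow_right (by norm_num) (List.mem_range.1 hj)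
  rw [← hx _ hk, ← hy _ hk]
  have hc := QuotientGroup.eq.1 hxy
  rw [← SetLike.mem_coe, center_eq] at hc
  rcases hc with hc | hc
  · rw [inv_mul_eq_one.1 hc]
  · rw [inv_mul_eq_iff_eq_mul.1 hc, act_mul]
    congr 1
    rw [act, negAut_smul, AddSubgroup.coe_neg, key_neg (vecOf_mem _), key_vecOf hk]

/-- the tables with their checks -/
structure Tabs where
  /-- the tables -/
  cs : List (List ℕ)

namespace Tabs

variable (T : Tabs)

/-- one table -/
def tb (i : ℕ) : List ℕ := T.cs.getD i pow2L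

/-- `g` inverts each of the listed elements -/
def invOK (g : ℕ) (xs : List ℕ) : Bool :=
  xs.all fun i => mulC (T.tb i) (mulC (T.tb g) (T.tb i)) == T.tb g

/-- `g` centralises each of the listed elements -/
def centOK (g : ℕ) (xs : List ℕ) : Bool :=
  xs.all fun i => mulC (T.tb g) (T.tb i) == mulC (T.tb i) (T.tb g)

/-- each `b` conjugates each `a` into a word in the `as` -/
def normOK (bs as : List ℕ) (ws : List (List (List ℕ))) : Bool :=
  (List.range bs.length).all fun j => (List.range as.length).all fun i =>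
    ((ws.getD j []).getD i []).all (fun a => decide (a < as.length))
      && mulC (T.tb (bs.getD j 0)) (T.tb (as.getD i 0)) ==
        mulC (wordC (as.map T.tb) ((ws.getD j []).getD i [])) (T.tb (bs.getD j 0))

/-- orders, commutation and pairs -/
def pieceOK (p : ℕ) (xs : List ℕ) (pairs : List (ℕ × ℕ × ℕ)) : Bool :=
  (List.range xs.length).all (fun i =>
    OddC.powC (T.tb (xs.getD i 0)) p == pow2L
      && (List.range xs.length).all (fun j => mulC (T.tb (xs.getD i 0)) (T.tb (xs.getD j 0))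
          == mulC (T.tb (xs.getD j 0)) (T.tb (xs.getD i 0))
        && (i == j || pairs.any (fun q => ((q.1 == i && q.2.1 == j) || (q.1 == j && q.2.1 == i))
          && mulC (T.tb q.2.2) (T.tb (xs.getD q.1 0)) == mulC (T.tb (xs.getD q.1 0)) (T.tb q.2.2)
          && mulC (T.tb (xs.getD q.2.1 0)) (mulC (T.tb q.2.2) (T.tb (xs.getD q.2.1 0))) == T.tb q.2.2))))

/-- all products of powers of the given elements -/
def spanC (p : ℕ) : List ℕ → List (List ℕ)
  | [] => [pow2L]
  | a :: as =>
    let rest := spanC p as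
    (List.range p).flatMap fun e => rest.map (mulC (OddC.powC (T.tb a) e))

/-- the products are distinct -/
def sizeOK (p : ℕ) (xs : List ℕ) : Bool :=
  let l := (T.spanC p xs).map keyC
  decide (l.Nodup) && l.length == p ^ xs.length

end Tabs

variable (T : Tabs) {G : ℕ → Co1} (hG : ∀ i, Rep1 (G i) (T.tb i))

/-- the subgroup generated by the listed elements -/
def gen (G : ℕ → Co1) (xs : List ℕ) : Subgroup Co1 :=
  Subgroup.closure (Set.range fun i : Fin xs.length => G (xs.getD i 0))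

theorem mem_gen (G : ℕ → Co1) {xs : List ℕ} {a : ℕ} (h : a ∈ xs) : G a ∈ gen G xs := by
  obtain ⟨j, hj, rfl⟩ := List.getElem_of_mem h
  exact Subgroup.subset_closure ⟨⟨j, hj⟩, by simp [List.getD_eq_getElem?_getD, List.getElem?_eq_getElem hj]⟩

theorem getD_mem {xs : List ℕ} (i : Fin xs.length) : xs.getD i 0 ∈ xs := by
  rw [List.getD_eq_getElem _ _ i.2]
  exact List.getElem_mem _

include hG

theorem rep_span (p : ℕ) (S : Subgroup Co1) : ∀ xs : List ℕ, (∀ a ∈ xs, G a ∈ S) →
    ∀ d ∈ T.spanC p xs, ∃ g ∈ S, Rep1 g d := by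
  intro xs
  induction xs with
  | nil =>
    intro _ d hd
    rw [Tabs.spanC, List.mem_singleton] at hd
    exact ⟨1, one_mem S, hd ▸ rep1_one⟩
  | cons a as ih =>
    intro h d hd
    simp only [List.mem_cons, forall_eq_or_imp] at h
    simp only [Tabs.spanC, List.mem_flatMap, List.mem_map] at hd
    obtain ⟨e, -, d', hd', rfl⟩ := hd
    obtain ⟨g, hg, hgr⟩ := ih h.2 d' hd'
    exact ⟨G a ^ e * g, mul_mem (pow_mem h.1 e) hg, ((hG a).pow e).mul hgr⟩

theorem card_gen [Finite Co1] {p : ℕ} {xs : List ℕ} (h : T.sizeOK p xs = true) :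
    p ^ xs.length ≤ Nat.card (gen G xs) := by
  simp only [Tabs.sizeOK, Bool.and_eq_true, beq_iff_eq, decide_eq_true_eq] at h
  obtain ⟨hnd, hlen⟩ := h
  rw [List.length_map] at hlen
  have hmem : ∀ i : Fin (T.spanC p xs).length, ∃ g ∈ gen G xs, Rep1 g ((T.spanC p xs)[i.1]) := fun i =>
    rep_span T hG p _ xs (fun a ha => mem_gen G ha) _ (List.getElem_mem i.2)
  choose g hgS hgr using hmem
  have hinj : Function.Injective fun i => (⟨g i, hgS i⟩ : gen G xs) := by
    intro i j he
    have he' : g i = g j := congrArg Subtype.val he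
    have hk : keyC ((T.spanC p xs)[i.1]) = keyC ((T.spanC p xs)[j.1]) := (hgr i).keyC_eq (he' ▸ hgr j)
    refine Fin.ext ((List.Nodup.getElem_inj_iff hnd (hi := by rw [List.length_map]; exact i.2)
      (hj := by rw [List.length_map]; exact j.2)).1 ?_)
    rw [List.getElem_map, List.getElem_map, hk]
  have := Nat.card_le_card_of_injective _ hinj
  rwa [Nat.card_fin, hlen] at this

theorem inv_spec {g : ℕ} {xs : List ℕ} (h : T.invOK g xs = true) {i : ℕ} (hi : i ∈ xs) :
    G g * G i * (G g)⁻¹ = (G i)⁻¹ := by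
  simp only [Tabs.invOK, List.all_eq_true, beq_iff_eq] at h
  rw [mul_inv_eq_iff_eq_mul, eq_inv_mul_iff_mul_eq]
  exact ((hG _).mul ((hG _).mul (hG _))).eq (by rw [h i hi]; exact hG _)

theorem cent_spec {g : ℕ} {xs : List ℕ} (h : T.centOK g xs = true) {x : Co1} (hx : x ∈ gen G xs) :
    G g * x = x * G g := by
  simp only [Tabs.centOK, List.all_eq_true, beq_iff_eq] at h
  induction hx using Subgroup.closure_induction with
  | mem x hx =>
    obtain ⟨i, rfl⟩ := hx
    exact ((hG _).mul (hG _)).eq (by rw [h _ (getD_mem i)]; exact (hG _).mul (hG _))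
  | one => simp
  | mul u v _ _ ihu ihv => rw [← mul_assoc, ihu, mul_assoc, ihv, mul_assoc]
  | inv u _ ihu => exact (show Commute (G g) u from ihu).inv_right.eq

theorem norm_spec [Finite Co1] {bs as : List ℕ} {ws : List (List (List ℕ))} (h : T.normOK bs as ws = true)
    {b : ℕ} (hb : b ∈ bs) : G b ∈ Subgroup.normalizer (gen G as : Set Co1) := by
  simp only [Tabs.normOK, List.all_eq_true, List.mem_range, Bool.and_eq_true, beq_iff_eq,
    decide_eq_true_eq] at h
  obtain ⟨j, hj, rfl⟩ := List.getElem_of_mem hb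
  refine Subgroup.mem_normalizer_fintype fun y hy => ?_
  induction hy using Subgroup.closure_induction with
  | mem x hx =>
    obtain ⟨i, rfl⟩ := hx
    obtain ⟨hlt, he⟩ := h j hj i i.2
    rw [List.getD_eq_getElem _ _ hj] at he
    set w := (ws.getD j []).getD i [] with hw
    have hrep : Rep1 ((w.map fun a => G (as.getD a 0)).prod) (wordC (as.map T.tb) w) := by
      have := Rep1.prod (g := fun a => G (as.getD a 0)) (c := fun a => (as.map T.tb).getD a pow2L)
        (w := w) fun a ha' => by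
          have hl := hlt a ha'
          simp only [List.getD_eq_getElem?_getD, List.getElem?_map, List.getElem?_eq_getElem hl,
            Option.map_some, Option.getD_some]
          exact hG _
      exact this
    have e' : G bs[j] * G (as.getD i 0) = (w.map fun a => G (as.getD a 0)).prod * G bs[j] :=
      ((hG _).mul (hG _)).eq (by rw [he]; exact hrep.mul (hG _))
    rw [e', mul_inv_cancel_right]
    refine Subgroup.list_prod_mem _ fun x hx => ?_
    obtain ⟨a, ha', rfl⟩ := List.mem_map.1 hx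
    exact Subgroup.subset_closure ⟨⟨a, hlt a ha'⟩, rfl⟩
  | one => simp
  | mul u v _ _ ihu ihv =>
    rw [show G bs[j] * (u * v) * (G bs[j])⁻¹ = G bs[j] * u * (G bs[j])⁻¹ * (G bs[j] * v * (G bs[j])⁻¹) by group]
    exact mul_mem ihu ihv
  | inv u _ ihu =>
    rw [show G bs[j] * u⁻¹ * (G bs[j])⁻¹ = (G bs[j] * u * (G bs[j])⁻¹)⁻¹ by group]
    exact inv_mem ihu

theorem gen_norm [Finite Co1] {bs as : List ℕ} {ws : List (List (List ℕ))} (h : T.normOK bs as ws = true)
    {x : Co1} (hx : x ∈ gen G bs) {y : Co1} (hy : y ∈ gen G as) : x * y * x⁻¹ ∈ gen G as := by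
  have hle : gen G bs ≤ Subgroup.normalizer (gen G as : Set Co1) := by
    rw [gen, Subgroup.closure_le]
    rintro _ ⟨i, rfl⟩
    exact norm_spec T hG h (getD_mem i)
  exact (Subgroup.mem_normalizer_iff.1 (hle hx) y).1 hy

theorem piece_spec {p : ℕ} {xs : List ℕ} {pairs : List (ℕ × ℕ × ℕ)}
    (h : T.pieceOK p xs pairs = true) :
    let a : Fin xs.length → Co1 := fun i => G (xs.getD i 0)
    (∀ i, a i ^ p = 1) ∧ (∀ i j, a i * a j = a j * a i) ∧
      ∀ i j, i ≠ j → FixInvert (a i) (a j) ∨ FixInvert (a j) (a i) := by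
  intro a
  have h' := fun i : Fin xs.length => List.all_eq_true.1 h i.1 (List.mem_range.2 i.2)
  simp only [Bool.and_eq_true, beq_iff_eq, List.all_eq_true, List.mem_range, Bool.or_eq_true,
    List.any_eq_true] at h'
  refine ⟨fun i => ((hG _).pow _).eq (by rw [(h' i).1]; exact rep1_one),
    fun i j => ((hG _).mul (hG _)).eq (by rw [((h' i).2 j j.2).1]; exact (hG _).mul (hG _)), fun i j hij => ?_⟩
  rcases ((h' i).2 j j.2).2 with e | ⟨⟨x, y, g⟩, -, ⟨hxy, hcom⟩, hinv⟩
  · exact absurd (Fin.ext e) hij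
  have e1 : G g * G (xs.getD x 0) * (G g)⁻¹ = G (xs.getD x 0) := by
    rw [mul_inv_eq_iff_eq_mul]
    exact ((hG _).mul (hG _)).eq (by rw [hcom]; exact (hG _).mul (hG _))
  have e2 : G g * G (xs.getD y 0) * (G g)⁻¹ = (G (xs.getD y 0))⁻¹ := by
    rw [mul_inv_eq_iff_eq_mul, eq_inv_mul_iff_mul_eq]
    exact ((hG _).mul ((hG _).mul (hG _))).eq (by rw [hinv]; exact hG _)
  rcases hxy with ⟨hx, hy⟩ | ⟨hx, hy⟩ <;> simp only at hx hy <;> subst hx hy
  · exact Or.inl ⟨G g, e1, e2⟩
  · exact Or.inr ⟨G g, e1, e2⟩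

/-- the section over one checked piece -/
theorem sec_piece [Finite Co1] {p : ℕ} (hp : p.Prime) (h2 : p ≠ 2) {E : Type} [Group E] [Finite E]
    {τ : E →* Co1} (hτ : Cfsg.IsStemExtension τ) (hk : Nat.card τ.ker = p)
    {xs : List ℕ} {pairs : List (ℕ × ℕ × ℕ)} (h : T.pieceOK p xs pairs = true) {t : ℕ}
    (ht : T.invOK t xs = true) :
    ∃ K, OddTower.Sec τ p (gen G xs) K ∧ ∃ U, τ U = G t ∧ ∀ x ∈ K, U * x * U⁻¹ = x⁻¹ := by
  obtain ⟨ha, haa, hpa⟩ := piece_spec T hG h
  exact sec_abelian hp h2 hτ hk (fun i : Fin xs.length => G (xs.getD i 0)) (G t)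
    (fun i => inv_spec T hG ht (getD_mem i)) ha haa hpa

end CfsgLib.Leech.MultOne
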